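import Mathlib.GroupTheory.SemidirectProduct
import Mathlib.GroupTheory.Sylow
import Mathlib.GroupTheory.Solvable
import Mathlib.LinearAlgebra.Matrix.GeneralLinearGroup.Card
import Mathlib.Algebra.Field.ZMod
import Mathlib.Data.Matrix.Mul
import Cfsg.Agent.AutFrattini.Basic
import Cfsg.Agent.S0064
import Cfsg.Prelude.Def_Solvable

/-!
A solvable group with an involution outside the 2-core which is subnormal with some member of
each conjugacy class.
-/

set_option autoImplicit false
set_option linter.style.haveILetI false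

namespace CfsgLib.SubnormalExample

open Subgroup SemidirectProduct

/-- The hypothesis: a 2-group of order 16 acting faithfully on a group of order 9 and exponent 3. -/
theorem exists_example {V Q : Type} [CommGroup V] [Group Q] [Finite V] [Finite Q]
    (hV : Nat.card V = 9) (hV3 : ∀ v : V, v ^ 3 = 1) (hQ : Nat.card Q = 16)
    (φ : Q →* MulAut V) (hφ : Function.Injective φ) :
    ∃ (G : Type) (_ : Group G) (_ : Finite G) (A : Subgroup G), Group.IsSolvable G ∧ Nat.card A = 2 ∧
      (∀ c : G, ∃ g : G, IsConj c g ∧ (A.subgroupOf (A ⊔ Subgroup.zpowers g)).IsSubnormal) ∧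
      ¬ A ≤ Cfsg.pCore 2 G := by
  classical
  haveI : Fact (Nat.Prime 2) := ⟨Nat.prime_two⟩
  haveI := Fintype.ofFinite V
  haveI := Fintype.ofFinite Q
  have hQp : IsPGroup 2 Q := IsPGroup.of_card (n := 4) (by rw [hQ]; norm_num)
  letI : MulAction Q V := MulAction.compHom V φ
  have hsm : ∀ (k : Q) (v : V), k • v = φ k v := fun _ _ => rfl
  -- stabilizers of nontrivial vectors
  have hstab : ∀ v : V, v ≠ 1 → Nat.card (MulAction.stabilizer Q v) ≤ 2 := by
    intro v hv
    set K := MulAction.stabilizer Q v with hK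
    have hvo : orderOf v = 3 := orderOf_eq_prime (hV3 v) hv
    letI : MulAction K {u : V // u ∉ zpowers v} :=
      { smul := fun k u => ⟨φ k u.1, fun hu => u.2 (by
          obtain ⟨i, hi⟩ := hu
          refine ⟨i, (φ (k : Q)).injective ?_⟩
          change (φ (k : Q)) (v ^ i) = φ (k : Q) u.1
          rw [map_zpow, show φ (k : Q) v = v from k.2]
          exact hi)⟩
        one_smul := fun u => Subtype.ext (show φ ((1 : K) : Q) u.1 = u.1 by rw [OneMemClass.coe_one, map_one]; rfl)
        mul_smul := fun k l u => Subtype.ext (show φ ((k * l : K) : Q) u.1 = φ k (φ l u.1) by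
          rw [Subgroup.coe_mul, map_mul]; rfl) }
    have hd : Nat.card K ∣ 6 := by
      have h6 : Nat.card {u : V // u ∉ zpowers v} = 6 := by
        have hc : Fintype.card {u : V // u ∈ zpowers v} = 3 := by
          rw [← Nat.card_eq_fintype_card]
          exact (Nat.card_zpowers v).trans hvo
        rw [Nat.card_eq_fintype_card, Fintype.card_subtype_compl, hc, ← Nat.card_eq_fintype_card, hV]
      rw [← h6]
      refine CfsgLib.AutFrattini.card_dvd_of_free fun k u hku => ?_
      have hku' : φ (k : Q) u.1 = u.1 := congrArg Subtype.val hku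
      let W := MonoidHom.eqLocus (φ (k : Q)).toMonoidHom (MonoidHom.id V)
      have hvW : zpowers v ≤ W := zpowers_le.2 k.2
      have huW : u.1 ∈ W := hku'
      have hlt : 3 < Nat.card W := by
        have h3 : Nat.card (zpowers v) = 3 := by rw [Nat.card_zpowers, hvo]
        rw [← h3]
        refine lt_of_le_of_ne (card_le_of_le hvW) fun e => u.2 ?_
        exact (SetLike.ext_iff.1 (eq_of_le_of_card_ge hvW e.ge) u.1).2 huW
      have hWd : Nat.card W ∣ 3 ^ 2 := (card_subgroup_dvd_card W).trans (dvd_of_eq (by rw [hV]; norm_num))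
      obtain ⟨i, hi, hWi⟩ := (Nat.dvd_prime_pow Nat.prime_three).1 hWd
      have hW : W = ⊤ := eq_top_of_card_eq _ (by
        rw [hWi] at hlt ⊢
        rw [hV]
        interval_cases i <;> simp_all)
      refine Subtype.ext (hφ ?_)
      rw [OneMemClass.coe_one, map_one]
      exact MulEquiv.ext fun w => (hW ▸ mem_top w : w ∈ W)
    obtain ⟨i, hi⟩ := IsPGroup.iff_card.1 (hQp.to_subgroup K)
    rw [hi] at hd ⊢
    have hle := Nat.le_of_dvd (by norm_num) hd
    rcases i with _ | _ | i
    · norm_num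
    · norm_num
    · exfalso
      have : 4 ∣ 2 ^ (i + 1 + 1) := Dvd.intro_left (2 ^ i) (by rw [pow_succ, pow_succ]; ring)
      exact absurd (this.trans hd) (by norm_num)
  have horb : ∀ v : V, v ≠ 1 → ∀ w : V, w ≠ 1 → w ∈ MulAction.orbit Q v := by
    intro v hv
    have h := MulAction.card_orbit_mul_card_stabilizer_eq_card_group Q v
    rw [← Nat.card_eq_fintype_card, ← Nat.card_eq_fintype_card, ← Nat.card_eq_fintype_card, hQ] at h
    have hge : 8 ≤ Nat.card (MulAction.orbit Q v) := by nlinarith [hstab v hv]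
    rw [Nat.card_coe_set_eq] at hge
    have hsub : MulAction.orbit Q v ⊆ ({1} : Set V)ᶜ := by
      rintro _ ⟨k, rfl⟩ (h1 : φ k v = 1)
      exact hv ((map_eq_one_iff _ (φ k).injective).1 h1)
    have heq := Set.eq_of_subset_of_ncard_le hsub
      (by rw [Set.ncard_compl, Set.ncard_singleton, hV]; exact hge) (Set.toFinite _)
    exact fun w hw => heq ▸ hw
  obtain ⟨v₀, hv₀⟩ : ∃ v : V, v ≠ 1 := by
    haveI : Nontrivial V := Finite.one_lt_card_iff_nontrivial.1 (by rw [hV]; norm_num)
    exact exists_ne 1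
  obtain ⟨a₀, ha₀, ha₀1⟩ : ∃ a ∈ MulAction.stabilizer Q v₀, a ≠ 1 := by
    by_contra hcon
    push Not at hcon
    have h1 : MulAction.stabilizer Q v₀ = ⊥ := (eq_bot_iff_forall _).2 hcon
    have hd : Nat.card (MulAction.orbit Q v₀) ≤ 8 := by
      have hsub : MulAction.orbit Q v₀ ⊆ ({1} : Set V)ᶜ := by
        rintro _ ⟨k, rfl⟩ (h1 : φ k v₀ = 1)
        exact hv₀ ((map_eq_one_iff _ (φ k).injective).1 h1)
      rw [Nat.card_coe_set_eq]
      refine (Set.ncard_le_ncard hsub (Set.toFinite _)).trans ?_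
      rw [Set.ncard_compl, Set.ncard_singleton, hV]
    have h := MulAction.card_orbit_mul_card_stabilizer_eq_card_group Q v₀
    rw [← Nat.card_eq_fintype_card, ← Nat.card_eq_fintype_card, ← Nat.card_eq_fintype_card, hQ, h1,
      Subgroup.card_bot] at h
    omega
  -- each nontrivial vector is fixed by a conjugate of a₀, which is its only nontrivial stabilizing element
  have hfix : ∀ w : V, w ≠ 1 → ∃ k : Q, φ (k * a₀ * k⁻¹) w = w := by
    intro w hw
    obtain ⟨k, hk⟩ := horb v₀ hv₀ w hw
    refine ⟨k, ?_⟩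
    rw [← hk]
    change φ (k * a₀ * k⁻¹) (φ k v₀) = φ k v₀
    rw [← MulAut.mul_apply, ← map_mul, inv_mul_cancel_right, map_mul, MulAut.mul_apply]
    exact congrArg (φ k) ha₀
  have huniq : ∀ w : V, w ≠ 1 → ∀ h : Q, h ≠ 1 → φ h w = w → ∃ k : Q, h = k * a₀ * k⁻¹ := by
    intro w hw h hh hhw
    obtain ⟨k, hk⟩ := hfix w hw
    refine ⟨k, by_contra fun hne => ?_⟩
    haveI := Fintype.ofFinite (MulAction.stabilizer Q w)
    have h3 : 3 ≤ Nat.card (MulAction.stabilizer Q w) := by
      have hsub : ({1, h, k * a₀ * k⁻¹} : Set Q) ⊆ (MulAction.stabilizer Q w : Set Q) := by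
        rintro x (rfl | rfl | rfl)
        · exact one_mem _
        · exact hhw
        · exact hk
      have hne' : (k * a₀ * k⁻¹) ≠ 1 := fun e => ha₀1 (conj_eq_one_iff.1 e)
      calc 3 = ({1, h, k * a₀ * k⁻¹} : Set Q).ncard := by
            rw [Set.ncard_insert_of_notMem (by simp [Ne.symm hh, Ne.symm hne']), Set.ncard_pair hne]
        _ ≤ (MulAction.stabilizer Q w : Set Q).ncard := Set.ncard_le_ncard hsub (Set.toFinite _)
        _ = _ := (Nat.card_coe_set_eq _).symm
    have := hstab w hw
    omega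
  have ha₀2 : orderOf a₀ = 2 := by
    have hle : orderOf a₀ ≤ 2 := by
      rw [← Nat.card_zpowers]
      exact (card_le_of_le (zpowers_le.2 ha₀)).trans (hstab v₀ hv₀)
    have h1 : orderOf a₀ ≠ 1 := fun e => ha₀1 (orderOf_eq_one_iff.1 e)
    have := orderOf_pos a₀
    omega
  haveI : Finite (V ⋊[φ] Q) := Finite.of_equiv _ SemidirectProduct.equivProd.symm
  refine ⟨V ⋊[φ] Q, inferInstance, inferInstance, zpowers (inr a₀), ?_, ?_, ?_, ?_⟩
  · haveI : Group.IsSolvable Q := by
      haveI := hQp.isNilpotent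
      infer_instance
    exact Group.isSolvable_of_ker_le_range (SemidirectProduct.inl (φ := φ)) SemidirectProduct.rightHom
      (by rw [SemidirectProduct.range_inl_eq_ker_rightHom])
  · rw [Nat.card_zpowers, orderOf_injective inr inr_injective, ha₀2]
  · -- the classes
    have hcom : ∀ c : V ⋊[φ] Q, (∃ k : Q, Commute c (inr (k * a₀ * k⁻¹))) →
        ∃ g, IsConj c g ∧ ((zpowers (inr a₀ : V ⋊[φ] Q)).subgroupOf
          (zpowers (inr a₀) ⊔ zpowers g)).IsSubnormal := by
      rintro c ⟨k, hk⟩
      refine ⟨(inr k)⁻¹ * c * inr k, isConj_iff.2 ⟨(inr k)⁻¹, by rw [inv_inv]⟩, Subgroup.Normal.isSubnormal ?_⟩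
      refine normal_subgroupOf_of_le_normalizer (sup_le le_normalizer (zpowers_le.2 ?_))
      refine centralizer_le_normalizer _ (mem_centralizer_iff.2 fun y hy => ?_)
      obtain ⟨i, rfl⟩ := hy
      refine (Commute.zpow_left ?_ i).eq
      have e : (inr a₀ : V ⋊[φ] Q) = (inr k)⁻¹ * inr (k * a₀ * k⁻¹) * inr k := by
        simp only [map_mul, map_inv]; group
      rw [e]
      show _ = _
      calc (inr k)⁻¹ * inr (k * a₀ * k⁻¹) * inr k * ((inr k)⁻¹ * c * inr k)
          = (inr k)⁻¹ * (inr (k * a₀ * k⁻¹) * c) * inr k := by group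
        _ = (inr k)⁻¹ * (c * inr (k * a₀ * k⁻¹)) * inr k := by rw [hk.eq]
        _ = (inr k)⁻¹ * c * inr k * ((inr k)⁻¹ * inr (k * a₀ * k⁻¹) * inr k) := by group
    intro c
    by_cases hc16 : c ^ 16 = 1
    · -- a 2-element
      obtain ⟨i, -, hi⟩ := (Nat.dvd_prime_pow Nat.prime_two (i := orderOf c) (m := 4)).1
        (orderOf_dvd_of_pow_eq_one (by norm_num; exact hc16))
      have hcp : IsPGroup 2 (zpowers c) := IsPGroup.of_card (n := i) (by rw [Nat.card_zpowers, hi])
      have hap : IsPGroup 2 (zpowers (inr a₀ : V ⋊[φ] Q)) := IsPGroup.of_card (n := 1)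
        (by rw [Nat.card_zpowers, orderOf_injective inr inr_injective, ha₀2, pow_one])
      obtain ⟨R, hR⟩ := hcp.exists_le_sylow
      obtain ⟨P, hP⟩ := hap.exists_le_sylow
      obtain ⟨x, hx⟩ := MulAction.exists_smul_eq (V ⋊[φ] Q) R P
      have hgP : x * c * x⁻¹ ∈ (P : Subgroup (V ⋊[φ] Q)) := by
        rw [← hx]
        exact Subgroup.smul_mem_pointwise_smul c (MulAut.conj x) _ (hR (mem_zpowers c))
      refine ⟨x * c * x⁻¹, isConj_iff.2 ⟨x, rfl⟩, ?_⟩
      haveI := (P.2.to_le (sup_le hP (zpowers_le.2 hgP))).isNilpotent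
      exact Cfsg.Agent.S0064.result.1 inferInstance _
    · -- some conjugate of the involution commutes with a conjugate of c
      set v := c.left with hv
      set h := c.right with hh
      have hc : c = inl v * inr h := (inl_left_mul_inr_right c).symm
      have hr : (c ^ 16).right = 1 := by
        rw [← SemidirectProduct.rightHom_eq_right, map_pow, ← hQ]
        exact pow_card_eq_one'
      set w := (c ^ 16).left with hw
      have hcw : c ^ 16 = inl w := by
        conv_lhs => rw [← inl_left_mul_inr_right (c ^ 16)]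
        rw [hr, map_one, mul_one]
      have hw1 : w ≠ 1 := fun e => hc16 (by rw [hcw, e, map_one])
      have hhw : φ h w = w := by
        have h1 : Commute c (inl w) := hcw ▸ (Commute.refl c).pow_right 16
        have h2 := congrArg SemidirectProduct.left h1.eq
        rw [mul_left, mul_left, left_inl, right_inl, map_one, MulAut.one_apply, mul_comm w,
          ← hv, ← hh] at h2
        exact mul_left_cancel h2
      by_cases hh1 : h = 1
      · have hv1 : v ≠ 1 := fun e => hc16 (by rw [hc, hh1, e, map_one, map_one, mul_one, one_pow])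
        obtain ⟨k, hk⟩ := hfix v hv1
        refine hcom c ⟨k, ?_⟩
        rw [hc, hh1, map_one, mul_one]
        show _ = _
        ext
        · simp only [mul_left, left_inl, right_inl, left_inr, right_inr, map_one, mul_one,
            one_mul]
          exact hk.symm
        · simp
      obtain ⟨k, hk⟩ := huniq w hw1 h hh1 hhw
      have hh2 : φ h (φ h v) = v := by
        rw [← MulAut.mul_apply, ← map_mul, hk, show k * a₀ * k⁻¹ * (k * a₀ * k⁻¹) = k * (a₀ * a₀) * k⁻¹ by group,
          show a₀ * a₀ = 1 by rw [← sq, ← ha₀2, pow_orderOf_eq_one]]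
        simp
      set d := v * (φ h v)⁻¹ with hd
      set v' := v * d with hv'
      have hfixv : φ h v' = v' := by
        rw [hv', hd, map_mul, map_mul, map_inv, hh2]
        generalize φ h v = u
        rw [← mul_assoc, ← mul_assoc, ← sq, ← sq, mul_inv_eq_iff_eq_mul, mul_right_comm, ← pow_succ, hV3,
          one_mul, eq_inv_iff_mul_eq_one, ← pow_succ, hV3]
      obtain ⟨g, hg, hgs⟩ := hcom (inl (d ^ 2) * c * (inl (d ^ 2))⁻¹) ⟨k, by
        have e : inl (d ^ 2) * c * (inl (d ^ 2))⁻¹ = inl v' * inr h := by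
          have hdh : φ h d = d⁻¹ := by
            rw [hd, map_mul, map_inv, hh2]; simp [mul_comm]
          have hdh2 : φ h (d ^ 2) = (d ^ 2)⁻¹ := by rw [map_pow, hdh, inv_pow]
          rw [hc, ← map_inv inl]
          ext
          · simp only [mul_left, left_inl, right_inl, left_inr, right_inr, map_one, MulAut.one_apply,
              mul_one, one_mul, mul_right, map_inv, hdh2, inv_inv, inv_left, inv_one]
            rw [hv', mul_right_comm, mul_comm _ v]
            calc v * (d ^ 2 * d ^ 2) = v * (d ^ 3 * d) := by rw [← pow_add, ← pow_succ]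
              _ = v * d := by rw [hV3, one_mul]
          · simp only [mul_right, right_inl, right_inr, one_mul, mul_one]
        rw [e, ← hk]
        refine Commute.mul_left ?_ (Commute.refl _)
        show _ = _
        ext
        · simp only [mul_left, left_inl, right_inl, left_inr, right_inr, map_one, mul_one,
            one_mul]
          exact hfixv.symm
        · simp⟩
      exact ⟨g, (isConj_iff.2 ⟨_, rfl⟩).trans hg, hgs⟩
  · intro hle
    have ha : (inr a₀ : V ⋊[φ] Q) ∈ Cfsg.pCore 2 (V ⋊[φ] Q) := hle (mem_zpowers _)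
    have hcent : ∀ N : Subgroup (V ⋊[φ] Q), N.Normal → IsPGroup 2 N →
        N ≤ centralizer (Set.range (inl (φ := φ))) := by
      intro N hN hN2 n hn
      refine mem_centralizer_iff.2 ?_
      rintro _ ⟨u, rfl⟩
      have hm1 : inl u * n * (inl u)⁻¹ * n⁻¹ ∈ N := N.mul_mem (hN.conj_mem n hn _) (N.inv_mem hn)
      have hm2 : inl u * n * (inl u)⁻¹ * n⁻¹ ∈ (inl (φ := φ)).range := by
        rw [range_inl_eq_ker_rightHom, MonoidHom.mem_ker]
        simp
      obtain ⟨z, hz⟩ := hm2
      obtain ⟨i, hi⟩ := hN2 ⟨_, hm1⟩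
      have hi' : (inl z : V ⋊[φ] Q) ^ 2 ^ i = 1 := hz ▸ congrArg Subtype.val hi
      rw [← map_pow, map_eq_one_iff _ inl_injective] at hi'
      have hz1 : z = 1 := by
        have := pow_gcd_eq_one.2 ⟨hi', hV3 z⟩
        rwa [Nat.Coprime.gcd_eq_one (Nat.Coprime.pow_left _ (by norm_num : Nat.Coprime 2 3)), pow_one] at this
      rw [hz1, map_one] at hz
      exact mul_inv_eq_iff_eq_mul.1 (mul_inv_eq_one.1 hz.symm)
    have hc := (sSup_le fun N hN => hcent N hN.1 hN.2 : Cfsg.pCore 2 (V ⋊[φ] Q) ≤ _) ha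
    refine ha₀1 (hφ ?_)
    rw [map_one]
    refine MulEquiv.ext fun u => inl_injective (φ := φ) ?_
    rw [inl_aut, MulAut.one_apply, ← mem_centralizer_iff.1 hc _ ⟨u, rfl⟩, map_inv, mul_inv_cancel_right]

/-- The general linear group acting on column vectors. -/
def vecAut : Matrix.GeneralLinearGroup (Fin 2) (ZMod 3) →* MulAut (Multiplicative (Fin 2 → ZMod 3)) where
  toFun M :=
    { toFun := fun x => Multiplicative.ofAdd (Matrix.mulVec (M : Matrix (Fin 2) (Fin 2) (ZMod 3)) x.toAdd)
      invFun := fun x => Multiplicative.ofAdd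
        (Matrix.mulVec ((M⁻¹ : Matrix.GeneralLinearGroup (Fin 2) (ZMod 3)) : Matrix (Fin 2) (Fin 2) (ZMod 3)) x.toAdd)
      left_inv := fun x => by simp [Matrix.mulVec_mulVec, ← Units.val_mul]
      right_inv := fun x => by simp [Matrix.mulVec_mulVec, ← Units.val_mul]
      map_mul' := fun x y => by simp [Matrix.mulVec_add] }
  map_one' := by ext x; simp
  map_mul' M N := by ext x; simp [Matrix.mulVec_mulVec]

theorem example_exists :
    ∃ (G : Type) (_ : Group G) (_ : Finite G) (A : Subgroup G), Group.IsSolvable G ∧ Nat.card A = 2 ∧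
      (∀ c : G, ∃ g : G, IsConj c g ∧ (A.subgroupOf (A ⊔ Subgroup.zpowers g)).IsSubnormal) ∧
      ¬ A ≤ Cfsg.pCore 2 G := by
  haveI : Fact (Nat.Prime 2) := ⟨Nat.prime_two⟩
  haveI : Fact (Nat.Prime 3) := ⟨Nat.prime_three⟩
  obtain ⟨Q, hQ⟩ := Sylow.exists_subgroup_card_pow_prime (G := Matrix.GeneralLinearGroup (Fin 2) (ZMod 3)) 2
    (n := 4) (by rw [Matrix.card_GL_field]; simp [Fin.prod_univ_two])
  refine exists_example (V := Multiplicative (Fin 2 → ZMod 3)) (Q := Q) ?_ ?_ (hQ.trans (by norm_num))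
    (vecAut.comp Q.subtype) (fun x y e => Q.subtype_injective ((?_ : Function.Injective vecAut) e))
  · rw [Nat.card_congr Multiplicative.toAdd, Nat.card_fun, Nat.card_zmod, Nat.card_fin]; norm_num
  · intro v
    apply Multiplicative.toAdd.injective
    funext i
    simp only [toAdd_pow, toAdd_one, Pi.smul_apply, nsmul_eq_mul, Pi.zero_apply]
    rw [show ((3 : ℕ) : ZMod 3) = 0 from ZMod.natCast_self 3, zero_mul]
  · intro M N h
    refine Units.ext (Matrix.ext_of_mulVec_single fun i => ?_)
    exact congrArg Multiplicative.toAdd (DFunLike.congr_fun h (Multiplicative.ofAdd (Pi.single i 1)))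

end CfsgLib.SubnormalExample
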